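import Groth.Agent.H16Derived.ProjFormula.DMap
import Groth.Agent.H16Derived.KFlat.RestrictD
import Groth.Agent.H10Coh.TildeExact

/-!
# Derived pullback along a flat morphism
-/

set_option autoImplicit false
set_option linter.style.haveILetI false
set_option backward.isDefEq.respectTransparency false

universe u

open CategoryTheory CategoryTheory.Limits CategoryTheory.Functor AlgebraicGeometry

attribute [local instance] HasDerivedCategory.standard

namespace Groth.Agent.H16Derived.DQLim

open Groth.Agent.H16Derived.ProjFormula (pullCx lam₀ isIso_lam₀ isIso_Qresψ)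
open Groth.Agent.H16Derived.KFlat.Stalk

variable {X Y : Scheme.{u}} (f : X ⟶ Y) [DCoh.HasLpull f] [Flat f]

/-- For flat `f` the comparison `Lf^* ⟶ f^*` is invertible on every complex. -/
theorem isIso_lam₀_of_flat (C : CochainComplex Y.Modules ℤ) : IsIso ((lam₀ f).app C) := by
  haveI := preservesFiniteLimits_pullback_of_flat f
  haveI : PreservesFiniteColimits (Scheme.Modules.pullback f) :=
    @PreservesColimitsOfSize.preservesFiniteColimits.{0, 0} _ _ _ _ (Scheme.Modules.pullback f)
      ((Scheme.Modules.pullbackPushforwardAdjunction f).leftAdjoint_preservesColimits)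
  let π := (resψ (X := Y)).app C
  haveI : QuasiIso π := quasiIso_resψ C
  haveI := isIso_Qresψ C
  haveI := isIso_lam₀ f ((res (X := Y)).obj C) (isKFlat_res C)
  haveI : QuasiIso ((pullCx f).map π) :=
    inferInstanceAs (QuasiIso (((Scheme.Modules.pullback f).mapHomologicalComplex _).map π))
  haveI : IsIso (DerivedCategory.Q.map ((pullCx f).map π)) := inferInstance
  have h : (DCoh.Lpull f).map (DerivedCategory.Q.map π) ≫ (lam₀ f).app C =
      (lam₀ f).app ((res (X := Y)).obj C) ≫ DerivedCategory.Q.map ((pullCx f).map π) :=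
    (lam₀ f).naturality π
  haveI : IsIso (DerivedCategory.Q.map π) := ‹_›
  haveI : IsIso ((DCoh.Lpull f).map (DerivedCategory.Q.map π) ≫ (lam₀ f).app C) := by
    rw [h]; infer_instance
  exact IsIso.of_isIso_comp_left ((DCoh.Lpull f).map (DerivedCategory.Q.map π)) _

/-- For flat `f`, `Lf^*` is `f^*`. -/
theorem nonempty_lpull_iso_mapDerivedCategory [PreservesFiniteLimits (Scheme.Modules.pullback f)]
    [PreservesFiniteColimits (Scheme.Modules.pullback f)] :
    Nonempty (DCoh.Lpull f ≅ (Scheme.Modules.pullback f).mapDerivedCategory) := by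
  haveI : ∀ C, IsIso ((lam₀ f).app C) := isIso_lam₀_of_flat f
  haveI := NatIso.isIso_of_isIso_app (lam₀ f)
  exact ⟨Localization.liftNatIso DerivedCategory.Q
    (HomologicalComplex.quasiIso Y.Modules (ComplexShape.up ℤ))
    (DerivedCategory.Q ⋙ DCoh.Lpull f)
    (DerivedCategory.Q ⋙ (Scheme.Modules.pullback f).mapDerivedCategory) _ _
    (asIso (lam₀ f) ≪≫ ((Scheme.Modules.pullback f).mapDerivedCategoryFactors).symm)⟩

instance preservesFiniteLimits_tilde (R : Type u) [CommRing R] :
    PreservesFiniteLimits (tilde.functor (CommRingCat.of R)) :=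
  H10Coh.tilde_preservesFiniteLimits

instance preservesFiniteColimits_tilde (R : Type u) [CommRing R] :
    PreservesFiniteColimits (tilde.functor (CommRingCat.of R)) :=
  H10Coh.tilde_preservesFiniteColimits

instance additive_tilde (R : Type u) [CommRing R] : (tilde.functor (CommRingCat.of R)).Additive :=
  haveI : PreservesColimitsOfShape (Discrete WalkingPair) (tilde.functor (CommRingCat.of R)) :=
    (preservesFiniteColimits_tilde R).preservesFiniteColimits _
  have := Limits.preservesBinaryBiproducts_of_preservesBinaryCoproducts (tilde.functor (CommRingCat.of R))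
  Functor.additive_of_preservesBinaryBiproducts _

variable {R : Type u} [CommRing R] (g : X ⟶ Spec (CommRingCat.of R)) [DCoh.HasLpull g] [Flat g]

/-- `Lg^*` of the sheaf of a module, naturally. -/
theorem nonempty_lpull_tildeD_single :
    Nonempty ((tilde.functor (CommRingCat.of R) ⋙ Scheme.Modules.pullback g) ⋙
        DerivedCategory.singleFunctor X.Modules 0 ≅
      DerivedCategory.singleFunctor (ModuleCat.{u} R) 0 ⋙ DCoh.tildeD (CommRingCat.of R) ⋙
        DCoh.Lpull g) := by
  haveI := preservesFiniteLimits_pullback_of_flat g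
  haveI : PreservesFiniteColimits (Scheme.Modules.pullback g) :=
    @PreservesColimitsOfSize.preservesFiniteColimits.{0, 0} _ _ _ _ (Scheme.Modules.pullback g)
      ((Scheme.Modules.pullbackPushforwardAdjunction g).leftAdjoint_preservesColimits)
  obtain ⟨e⟩ := nonempty_lpull_iso_mapDerivedCategory g
  exact ⟨Functor.associator _ _ _ ≪≫
    isoWhiskerLeft (tilde.functor (CommRingCat.of R))
      ((Scheme.Modules.pullback g).mapDerivedCategorySingleFunctor 0).symm ≪≫
    (Functor.associator _ _ _).symm ≪≫
    isoWhiskerRight ((tilde.functor (CommRingCat.of R)).mapDerivedCategorySingleFunctor 0).symm _ ≪≫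
    Functor.associator _ _ _ ≪≫ isoWhiskerLeft _ (isoWhiskerLeft _ e.symm)⟩

end Groth.Agent.H16Derived.DQLim
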