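import Groth.Agent.H16Derived.ProjFormula.DQc
import Groth.Agent.H16Derived.Dual.BiDual
import Groth.Agent.H16Derived.Dual.PerfQCoh
import Groth.Agent.H16Derived.BaseChange.Finiteness
import Groth.Agent.H16Derived.H0Split.Unit
import Groth.Agent.H16Derived.QCohD.Equiv
import Groth.Agent.H16Derived.DQLim.Lpull

/-!
# `Hom(P, Lf^* -)` is corepresentable for perfect `P` and proper flat `f`
-/

set_option autoImplicit false
set_option linter.style.haveILetI false
set_option backward.isDefEq.respectTransparency false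

universe u

open CategoryTheory CategoryTheory.Limits CategoryTheory.Functor AlgebraicGeometry

attribute [local instance] HasDerivedCategory.standard

namespace Groth.Agent.H16Derived.DQLim

open Groth.Agent.H16Derived.Dual (T R ro one σ w θ th th_eq αc ev rightUnit)

/-- Composition with an isomorphism of the target. -/
def post {C : Type*} [Category C] (Z : C) {A B : C} (e : A ≅ B) : (Z ⟶ A) ≃ (Z ⟶ B) where
  toFun x := x ≫ e.hom
  invFun y := y ≫ e.inv
  left_inv x := by simp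
  right_inv y := by simp

/-- Composition with an isomorphism of the source. -/
def pre {C : Type*} [Category C] (Z : C) {A B : C} (e : A ≅ B) : (B ⟶ Z) ≃ (A ⟶ Z) where
  toFun x := e.hom ≫ x
  invFun y := e.inv ≫ y
  left_inv x := by simp
  right_inv y := by simp

variable {X : Scheme.{u}}

theorem αc_naturality (k : DCoh.D X) {m m' : DCoh.D X} (φ : m ⟶ m') :
    ((T X).map (((T X).map φ).app (ro k))).app k ≫ αc k m' = αc k m ≫ φ := by
  have hn : ((T X).map φ).app (((T X).obj (ro k)).obj k) ≫ ((T X).obj m').map (ev k) =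
      ((T X).obj m).map (ev k) ≫ ((T X).map φ).app (one X) := (((T X).map φ).naturality (ev k)).symm
  have hr : ((T X).map φ).app (one X) ≫ (rightUnit X).hom.app m' = (rightUnit X).hom.app m ≫ φ :=
    (rightUnit X).hom.naturality φ
  simp only [αc]
  rw [Dual.α_naturality_left_assoc, reassoc_of% hn, hr, Category.assoc, Category.assoc]

theorem th_naturality_target (g k : DCoh.D X) {m m' : DCoh.D X} (φ : m ⟶ m')
    (x : g ⟶ ((T X).obj m).obj (ro k)) :
    th g m' k (x ≫ ((T X).map φ).app (ro k)) = th g m k x ≫ φ := by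
  show ((T X).map (x ≫ ((T X).map φ).app (ro k))).app k ≫ αc k m' =
    (((T X).map x).app k ≫ αc k m) ≫ φ
  rw [Functor.map_comp, NatTrans.comp_app, Category.assoc, αc_naturality, Category.assoc]

/-- `Hom(O, m ⊗ k^∨) = Hom(k, m)`, naturally. -/
theorem exists_natEquiv_dual {k : DCoh.D X} (hk : DCoh.IsPerfect k) :
    ∃ e : ∀ m : DCoh.D X, (one X ⟶ ((T X).obj m).obj (ro k)) ≃ (k ⟶ m),
      ∀ (m m' : DCoh.D X) (φ : m ⟶ m') (x : one X ⟶ ((T X).obj m).obj (ro k)),
        e m' (x ≫ ((T X).map φ).app (ro k)) = e m x ≫ φ := by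
  let lu : k ≅ ((T X).obj (one X)).obj k := ((rightUnit X).app k).symm ≪≫ σ k (one X)
  have hb : ∀ m : DCoh.D X, Function.Bijective (th (one X) m k) := fun m => by
    haveI := Dual.isIso_θ hk m
    have e : ⇑(th (one X) m k) = ((Dual.adjR k).homEquiv _ _).symm ∘ post (one X) (asIso (θ k m)) :=
      funext fun x => th_eq _ _ _ x
    rw [e]
    exact (Equiv.bijective _).comp (Equiv.bijective _)
  refine ⟨fun m => (Equiv.ofBijective _ (hb m)).trans (pre m lu), fun m m' φ x => ?_⟩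
  show lu.hom ≫ th (one X) m' k (x ≫ ((T X).map φ).app (ro k)) = (lu.hom ≫ th (one X) m k x) ≫ φ
  rw [th_naturality_target, Category.assoc]

variable {S : Scheme.{u}} (f : X ⟶ S) [IsProper f] [Flat f] [LocallyOfFinitePresentation f]
  [DCoh.HasLpull f] [DCoh.HasRpush f]

/-- `Hom(P, Lf^* -)` on quasi-coherent cohomology is corepresented by a perfect object. -/
theorem exists_corep {P : DCoh.D X} (hP : DCoh.IsPerfect P) :
    ∃ (k : DCoh.D S) (_ : DCoh.IsPerfect k)
      (e : ∀ M : DCoh.D S, DCoh.IsQCohD M → ((k ⟶ M) ≃ (P ⟶ (DCoh.Lpull f).obj M))),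
      ∀ (M M' : DCoh.D S) (hM : DCoh.IsQCohD M) (hM' : DCoh.IsQCohD M') (φ : M ⟶ M') (y : k ⟶ M),
        e M' hM' (y ≫ φ) = e M hM y ≫ (DCoh.Lpull f).map φ := by
  haveI := KFlat.Stalk.isGrothendieckAbelian_modules (X := X)
  have hd : DCoh.IsPerfect (ro P) := Dual.isPerfect_ro hP
  obtain ⟨I, hI, ⟨eI₀⟩⟩ := KInjRes.exists_kInjective_iso (A := X.Modules) (ro P)
  haveI := hI
  let eI : DerivedCategory.Q.obj I ≅ ro P := eI₀.symm
  have hQI : DCoh.IsQCohD (DerivedCategory.Q.obj I) :=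
    QCohD.isQCohD_iso eI.symm (Dual.isQCohD_of_isPerfect hd)
  let Q := DerivedCategory.Q.obj I
  let E := DerivedCategory.Q.obj ((ProjFormula.pushCx f).obj I)
  have hE : DCoh.IsPerfect E := by
    haveI := ProjFormula.isIso_η₀ f I
    refine KFlat.Stalk.isPerfect_of_iso ?_ (BaseChange.isPerfect_rpush f (E := Q) ?_)
    · exact (asIso ((ProjFormula.η₀ f).app I)).symm
    · exact KFlat.Stalk.isPerfect_of_iso eI.symm hd
  haveI := Dual.isIso_w hE
  obtain ⟨eX, hX⟩ := exists_natEquiv_dual hP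
  obtain ⟨eS, hS⟩ := exists_natEquiv_dual (Dual.isPerfect_ro hE)
  let uO : one X ≅ (DCoh.Lpull f).obj (one S) := Dual.oneIso.symm ≪≫ (H0Split.lpullO f).symm ≪≫
    (DCoh.Lpull f).mapIso Dual.oneIso
  let adj := KFlat.Stalk.lpullRpushAdj f
  -- the two halves
  let toX : ∀ M : DCoh.D S,
      (P ⟶ (DCoh.Lpull f).obj M) ≃ (one S ⟶ (ProjFormula.GG f I).obj M) := fun M =>
    let L := (DCoh.Lpull f).obj M
    (eX L).symm.trans ((post (one X) (σ L (ro P) ≪≫ ((T X).mapIso eI.symm).app L)).trans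
      ((pre _ uO.symm).trans (adj.homEquiv (one S) (((T X).obj Q).obj L))))
  let toS : ∀ M : DCoh.D S, (one S ⟶ ((T S).obj E).obj M) ≃ (ro E ⟶ M) := fun M =>
    (post (one S) (σ E M ≪≫ ((T S).obj M).mapIso (asIso (w E)))).trans (eS M)
  have hXsymm : ∀ (m m' : DCoh.D X) (φ : m ⟶ m') (y : P ⟶ m),
      (eX m').symm (y ≫ φ) = (eX m).symm y ≫ ((T X).map φ).app (ro P) := fun m m' φ y => by
    rw [Equiv.symm_apply_eq, hX, Equiv.apply_symm_apply]
  have htoX : ∀ (M M' : DCoh.D S) (φ : M ⟶ M') (y : P ⟶ (DCoh.Lpull f).obj M),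
      toX M' (y ≫ (DCoh.Lpull f).map φ) = toX M y ≫ (ProjFormula.GG f I).map φ := by
    intro M M' φ y
    let l := (DCoh.Lpull f).map φ
    have h1 : ((T X).map l).app (ro P) ≫ (σ _ (ro P)).hom ≫ ((T X).map eI.inv).app _ =
        ((σ _ (ro P)).hom ≫ ((T X).map eI.inv).app _) ≫ ((T X).obj Q).map l := by
      rw [Dual.σ_naturality_left_assoc, Category.assoc]
      exact congrArg (_ ≫ ·) (((T X).map eI.inv).naturality l)
    show adj.homEquiv _ _ (uO.inv ≫ (eX _).symm (y ≫ l) ≫ (σ _ (ro P)).hom ≫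
      ((T X).map eI.inv).app _) = adj.homEquiv _ _ (uO.inv ≫ (eX _).symm y ≫ (σ _ (ro P)).hom ≫
        ((T X).map eI.inv).app _) ≫ (DCoh.Rpush f).map (((T X).obj Q).map l)
    rw [← Adjunction.homEquiv_naturality_right, hXsymm, Category.assoc, h1]
    simp only [Category.assoc]
    rfl
  have htoS : ∀ (M M' : DCoh.D S) (φ : M ⟶ M') (y : one S ⟶ ((T S).obj E).obj M),
      toS M' (y ≫ ((T S).obj E).map φ) = toS M y ≫ φ := by
    intro M M' φ y
    show eS M' ((y ≫ ((T S).obj E).map φ) ≫ (σ E M').hom ≫ ((T S).obj M').map (w E)) =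
      eS M (y ≫ (σ E M).hom ≫ ((T S).obj M).map (w E)) ≫ φ
    rw [← hS, Category.assoc, Category.assoc, Dual.σ_naturality_right_assoc, Category.assoc]
    refine congrArg (fun z => eS M' (y ≫ (σ E M).hom ≫ z)) ?_
    exact ((T S).map φ).naturality (w E) |>.symm
  let mid : ∀ M, DCoh.IsQCohD M →
      ((one S ⟶ (ProjFormula.GG f I).obj M) ≃ (one S ⟶ ((T S).obj E).obj M)) := fun M hM =>
    haveI := ProjFormula.isIso_θ_of_isQCohD f I hQI M hM
    post (one S) (asIso ((ProjFormula.θ f I).app M)).symm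
  refine ⟨ro E, Dual.isPerfect_ro hE,
    fun M hM => (((toX M).trans (mid M hM)).trans (toS M)).symm, fun M M' hM hM' φ y => ?_⟩
  rw [Equiv.symm_apply_eq]
  set x := (((toX M).trans (mid M hM)).trans (toS M)).symm y with hx
  have hy : y = toS M (mid M hM (toX M x)) :=
    ((((toX M).trans (mid M hM)).trans (toS M)).apply_symm_apply y).symm
  show y ≫ φ = toS M' (mid M' hM' (toX M' (x ≫ (DCoh.Lpull f).map φ)))
  rw [htoX, hy, ← htoS]
  refine congrArg (toS M') ?_
  haveI := ProjFormula.isIso_θ_of_isQCohD f I hQI M hM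
  haveI := ProjFormula.isIso_θ_of_isQCohD f I hQI M' hM'
  show (toX M x ≫ inv ((ProjFormula.θ f I).app M)) ≫ ((T S).obj E).map φ =
    (toX M x ≫ (ProjFormula.GG f I).map φ) ≫ inv ((ProjFormula.θ f I).app M')
  rw [Category.assoc, Category.assoc]
  refine congrArg (_ ≫ ·) ?_
  rw [IsIso.inv_comp_eq, ← Category.assoc, IsIso.eq_comp_inv]
  exact (ProjFormula.θ f I).naturality φ

end Groth.Agent.H16Derived.DQLim
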