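import Groth.Agent.H16Derived.DQBound.Induct
import Groth.Agent.H16Derived.Thomason.Generator
import Groth.Agent.H15Site.RlimTriang
import Groth.Agent.H16Derived.QCohD.HomVanish
import Groth.Agent.H16Derived.Dual.PerfQCoh
import Groth.Agent.S7239

/-!
# Perfect objects detect maps which are invertible seen from quasi-coherent cohomology
-/

set_option autoImplicit false
set_option linter.style.haveILetI false
set_option linter.unusedSectionVars false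
set_option backward.isDefEq.respectTransparency false

universe u v

open CategoryTheory CategoryTheory.Limits CategoryTheory.Pretriangulated AlgebraicGeometry

attribute [local instance] HasDerivedCategory.standard

namespace Groth.Agent.H16Derived.DQLim

open H15Site

section Generic

variable {T : Type u} [Category.{v} T] [Preadditive T] [HasZeroObject T] [HasShift T ℤ]
  [∀ n : ℤ, (shiftFunctor T n).Additive] [Pretriangulated T]

/-- Bijectivity on maps out of all shifts gives bijectivity after shifting the target. -/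
theorem bijective_shift {A B : T} (c : A ⟶ B) (Q : T) (m : ℤ)
    (h : Function.Bijective fun x : Q⟦-m⟧ ⟶ A => x ≫ c) :
    Function.Bijective fun x : Q ⟶ A⟦m⟧ => x ≫ c⟦m⟧' := by
  have e : (fun x : Q ⟶ A⟦m⟧ => x ≫ c⟦m⟧') =
      RlimTriang.shEquiv Q B m ∘ (fun x => x ≫ c) ∘ (RlimTriang.shEquiv Q A m).symm := funext fun x => by
    simp only [Function.comp_apply]
    rw [RlimTriang.shEquiv_comp, Equiv.apply_symm_apply]
  rw [e]
  exact (Equiv.bijective _).comp (h.comp (Equiv.bijective _))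

/-- Maps into the cone vanish. -/
theorem eq_zero_cone {A B C : T} {c : A ⟶ B} {g : B ⟶ C} {δ : C ⟶ A⟦(1 : ℤ)⟧}
    (hT : Triangle.mk c g δ ∈ distTriang T) (Q : T)
    (h₁ : Function.Bijective fun x : Q⟦(-1 : ℤ)⟧ ⟶ A => x ≫ c)
    (h₀ : Function.Surjective fun x : Q ⟶ A => x ≫ c) (z : Q ⟶ C) : z = 0 := by
  have h1 : z ≫ δ = 0 := (bijective_shift c Q 1 h₁).1 (by
    show (z ≫ δ) ≫ c⟦(1 : ℤ)⟧' = 0 ≫ c⟦(1 : ℤ)⟧'
    rw [zero_comp, Category.assoc, show δ ≫ c⟦(1 : ℤ)⟧' = 0 from comp_distTriang_mor_zero₃₁ _ hT, comp_zero])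
  obtain ⟨w, hw⟩ : ∃ w : Q ⟶ B, z = w ≫ g := Triangle.coyoneda_exact₃ _ hT z h1
  obtain ⟨x, rfl⟩ := h₀ w
  rw [hw, Category.assoc, show c ≫ g = 0 from comp_distTriang_mor_zero₁₂ _ hT, comp_zero]

/-- Vanishing of maps into the cone gives bijectivity. -/
theorem bijective_of_cone {A B C : T} {c : A ⟶ B} {g : B ⟶ C} {δ : C ⟶ A⟦(1 : ℤ)⟧}
    (hT : Triangle.mk c g δ ∈ distTriang T) (Q : T) (h₁ : ∀ z : Q⟦(1 : ℤ)⟧ ⟶ C, z = 0)
    (h₀ : ∀ z : Q ⟶ C, z = 0) : Function.Bijective fun x : Q ⟶ A => x ≫ c := by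
  refine ⟨fun x y hxy => sub_eq_zero.1 (RlimTriang.injective_of_cone c g δ hT Q h₁ _ ?_),
    fun w => RlimTriang.surjective_of_cone c g δ hT Q h₀ w⟩
  rw [Preadditive.sub_comp]
  exact sub_eq_zero.2 hxy

/-- A five lemma for maps out of a shift-stable family of objects. -/
theorem bijective_five (S : T → Prop) (hS : ∀ Q, S Q → ∀ n : ℤ, S (Q⟦n⟧))
    {L Pr L' Pr' : T} {i : L ⟶ Pr} {d : Pr ⟶ Pr} {δ : Pr ⟶ L⟦(1 : ℤ)⟧}
    {i' : L' ⟶ Pr'} {d' : Pr' ⟶ Pr'} {δ' : Pr' ⟶ L'⟦(1 : ℤ)⟧}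
    (hT : Triangle.mk i d δ ∈ distTriang T) (hT' : Triangle.mk i' d' δ' ∈ distTriang T)
    (a : L ⟶ L') (b : Pr ⟶ Pr') (hab : i ≫ b = a ≫ i') (hbb : d ≫ b = b ≫ d')
    (hba : δ ≫ a⟦(1 : ℤ)⟧' = b ≫ δ') (hb : ∀ Q, S Q → Function.Bijective fun x : Q ⟶ Pr => x ≫ b)
    (Q : T) (hQ : S Q) : Function.Bijective fun x : Q ⟶ L => x ≫ a := by
  have z23 : d ≫ δ = 0 := comp_distTriang_mor_zero₂₃ _ hT
  constructor
  · intro x y hxy
    refine sub_eq_zero.1 ?_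
    have hxa : (x - y) ≫ a = 0 := by rw [Preadditive.sub_comp]; exact sub_eq_zero.2 hxy
    generalize x - y = v at hxa ⊢
    have hvi : v ≫ i = 0 := (hb Q hQ).1 (by
      show (v ≫ i) ≫ b = 0 ≫ b
      rw [zero_comp, Category.assoc, hab, ← Category.assoc, hxa, zero_comp])
    obtain ⟨z, hz⟩ : ∃ z : Q⟦(1 : ℤ)⟧ ⟶ Pr, v⟦(1 : ℤ)⟧' = z ≫ δ :=
      Triangle.coyoneda_exact₁ _ hT (v⟦(1 : ℤ)⟧') (by
        show v⟦(1 : ℤ)⟧' ≫ i⟦(1 : ℤ)⟧' = 0
        rw [← Functor.map_comp, hvi, Functor.map_zero])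
    obtain ⟨u, hu⟩ : ∃ u : Q⟦(1 : ℤ)⟧ ⟶ Pr', z ≫ b = u ≫ d' :=
      Triangle.coyoneda_exact₃ _ hT' (z ≫ b) (by
        show (z ≫ b) ≫ δ' = 0
        rw [Category.assoc, ← hba, ← Category.assoc, ← hz, ← Functor.map_comp, hxa, Functor.map_zero])
    obtain ⟨u', rfl⟩ := (hb _ (hS Q hQ 1)).2 u
    have hzu : z = u' ≫ d := (hb _ (hS Q hQ 1)).1 (by
      show z ≫ b = (u' ≫ d) ≫ b
      rw [hu, Category.assoc, Category.assoc, hbb])
    apply (shiftFunctor T (1 : ℤ)).map_injective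
    rw [hz, hzu, Category.assoc, z23, comp_zero, Functor.map_zero]
  · intro y
    obtain ⟨w, hw : w ≫ b = y ≫ i'⟩ := (hb Q hQ).2 (y ≫ i')
    have hwd : w ≫ d = 0 := (hb Q hQ).1 (by
      show (w ≫ d) ≫ b = 0 ≫ b
      rw [zero_comp, Category.assoc, hbb, ← Category.assoc, hw, Category.assoc,
        show i' ≫ d' = 0 from comp_distTriang_mor_zero₁₂ _ hT', comp_zero])
    obtain ⟨x₀, hx₀⟩ : ∃ x₀ : Q ⟶ L, w = x₀ ≫ i := Triangle.coyoneda_exact₂ _ hT w hwd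
    have hyi : (y - x₀ ≫ a) ≫ i' = 0 := by
      rw [Preadditive.sub_comp, ← hw, hx₀, Category.assoc, Category.assoc, hab, sub_self]
    obtain ⟨v, hv⟩ : ∃ v : Q⟦(1 : ℤ)⟧ ⟶ Pr', (y - x₀ ≫ a)⟦(1 : ℤ)⟧' = v ≫ δ' :=
      Triangle.coyoneda_exact₁ _ hT' ((y - x₀ ≫ a)⟦(1 : ℤ)⟧') (by
        show (y - x₀ ≫ a)⟦(1 : ℤ)⟧' ≫ i'⟦(1 : ℤ)⟧' = 0
        rw [← Functor.map_comp, hyi, Functor.map_zero])
    obtain ⟨v', rfl⟩ := (hb _ (hS Q hQ 1)).2 v
    obtain ⟨x₁, hx₁⟩ := (shiftFunctor T (1 : ℤ)).map_surjective (v' ≫ δ)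
    have hx₁a : y - x₀ ≫ a = x₁ ≫ a := (shiftFunctor T (1 : ℤ)).map_injective (by
      rw [hv, Functor.map_comp, hx₁, Category.assoc, Category.assoc, hba])
    exact ⟨x₀ + x₁, by
      show (x₀ + x₁) ≫ a = y
      rw [Preadditive.add_comp, ← hx₁a, add_sub_cancel]⟩

end Generic

variable {X : Scheme.{u}} [CompactSpace X] [QuasiSeparatedSpace X]

/-- Perfect objects detect. -/
theorem bijective_of_isPerfect {A B : DCoh.D X} (c : A ⟶ B)
    (h : ∀ P : DCoh.D X, DCoh.IsPerfect P → Function.Bijective fun x : P ⟶ A => x ≫ c)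
    (Q : DCoh.D X) (hQ : DCoh.IsQCohD Q) : Function.Bijective fun x : Q ⟶ A => x ≫ c := by
  haveI := Groth.Agent.S7239.result X
  obtain ⟨C, g, δ, hT⟩ := distinguished_cocone_triangle c
  have hP : ∀ P : DCoh.D X, DCoh.IsPerfect P → ∀ z : P ⟶ C, z = 0 := fun P hP z =>
    eq_zero_cone hT P (h _ (KFlat.Stalk.isPerfect_shift hP _)) (h P hP).2 z
  obtain ⟨P₀, hP₀, hgen⟩ := Thomason.hasGen (X := X) Set.univ isClosed_univ (by simp)
  have hD : DCoh.IsQCohD ((DQBound.DQ (X := X)).obj C) :=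
    ((ObjectProperty.ι (DCoh.IsQCohD (X := X))).rightAdjoint.obj C).property
  have h0 : IsZero ((DQBound.DQ (X := X)).obj C) := hgen _ ⟨hD, Thomason.suppIn_univ _⟩ fun n f => by
    refine (DQBound.bijective_εDQ C (QCohD.HomVanish.isQCohD_shift
      (Dual.isQCohD_of_isPerfect hP₀.1) n)).1 ?_
    show f ≫ DQBound.εDQ C = 0 ≫ DQBound.εDQ C
    rw [zero_comp]
    exact hP _ (KFlat.Stalk.isPerfect_shift hP₀.1 n) _
  have hQ0 : ∀ Q' : DCoh.D X, DCoh.IsQCohD Q' → ∀ z : Q' ⟶ C, z = 0 := fun Q' hQ' z => by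
    obtain ⟨φ, rfl⟩ := (DQBound.bijective_εDQ C hQ').2 z
    show φ ≫ _ = 0
    rw [h0.eq_of_tgt φ 0, zero_comp]
  exact bijective_of_cone hT Q (hQ0 _ (QCohD.HomVanish.isQCohD_shift hQ 1)) (hQ0 Q hQ)

end Groth.Agent.H16Derived.DQLim
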