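import Groth.Agent.H16Derived.RlimMod.Main
import Mathlib.Algebra.Category.ModuleCat.Projective
import Mathlib.Algebra.Homology.DerivedCategory.Ext.EnoughProjectives

/-!
# Derived limits of towers of modules over a ring with surjective transition maps
-/

set_option autoImplicit false
set_option linter.style.haveILetI false
set_option backward.isDefEq.respectTransparency false

universe u

open CategoryTheory CategoryTheory.Limits CategoryTheory.Pretriangulated Opposite DerivedCategory

attribute [local instance] HasDerivedCategory.standard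

namespace Groth.Agent.H16Derived.DQLim

open H15Site H15Site.SiteGen H15Site.RlimTrunc

variable (R : Type u) [CommRing R]

instance projective_self : Projective (ModuleCat.of R R) :=
  IsProjective.iff_projective (R := R) (P := R) |>.1 inferInstance

/-- `R` as a generator over the point. -/
noncomputable def genPt : Gen (⊥ : GrothendieckTopology (Discrete PUnit.{u + 1})) (ModuleCat.{u} R) where
  G := (Functor.const _).obj (ModuleCat.of R R)
  loc {X V} p hp := ⟨⊤, GrothendieckTopology.top_mem _ V, fun Y g _ => by
    haveI : Epi (Y := ModuleCat.of R R) p := hp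
    obtain ⟨l, hl⟩ : ∃ l : ModuleCat.of R R ⟶ X, l ≫ (p : X ⟶ ModuleCat.of R R) = 𝟙 _ :=
      ⟨Projective.factorThru _ _, Projective.factorThru_comp _ _⟩
    exact ⟨l, hl⟩⟩
  sep {V S} hS {X} φ h := by
    have := h (𝟙 V) (by rw [GrothendieckTopology.bot_covering.1 hS]; trivial)
    rwa [CategoryTheory.Functor.map_id, Category.id_comp] at this
  gen {X Y} φ h := by
    refine ModuleCat.hom_ext (LinearMap.ext fun x => ?_)
    exact DFunLike.congr_fun (congrArg ModuleCat.Hom.hom
      (h ⟨PUnit.unit⟩ (ModuleCat.ofHom (LinearMap.toSpanSingleton R X x)))) (1 : R) |> fun e => by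
        simpa using e

/-- Surjective towers of modules have their limit as derived limit, through the projections. -/
theorem isRlimVia_modules (M : ℕ → ModuleCat.{u} R) (t : ∀ n, M (n + 1) ⟶ M n) (ht : ∀ n, Epi (t n))
    [HasProduct fun n => (singleFunctor (ModuleCat.{u} R) 0).obj (M n)] :
    CohCx.IsRlimVia (fun n => (singleFunctor (ModuleCat.{u} R) 0).obj (M n))
      (fun n => (singleFunctor (ModuleCat.{u} R) 0).map (t n))
      ((singleFunctor (ModuleCat.{u} R) 0).obj (limit (Functor.ofOpSequence t)))
      (fun n => (singleFunctor (ModuleCat.{u} R) 0).map (limit.π (Functor.ofOpSequence t) (op n))) := by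
  refine (RlimMod.main_via (genPt R) M t Set.univ
    (fun U => ⟨PUnit, fun _ => U, fun _ => 𝟙 U, ?_, fun _ => trivial⟩)
    (fun U _ k hk n => ⟨fun a b => ?_⟩) 0 (fun U _ n _ φ => ?_)).1
  · rw [GrothendieckTopology.bot_covering, eq_top_iff]
    exact fun Y g _ => ⟨U, g, 𝟙 U, ⟨PUnit.unit⟩, Category.comp_id _⟩
  · obtain ⟨q, rfl⟩ := Nat.exists_eq_succ_of_ne_zero hk.ne'
    haveI := CategoryTheory.HasExt.standard (ModuleCat.{u} R)
    haveI := Abelian.Ext.subsingleton_of_projective (ModuleCat.of R R) (M n) q
    exact (Abelian.Ext.homEquiv (X := ModuleCat.of R R) (Y := M n) (n := q + 1)).symm.injective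
      (Subsingleton.elim _ _)
  · haveI := ht n
    obtain ⟨l, hl⟩ : ∃ l : ModuleCat.of R R ⟶ M (n + 1), l ≫ t n = (φ : ModuleCat.of R R ⟶ M n) :=
      ⟨Projective.factorThru _ _, Projective.factorThru_comp _ _⟩
    exact ⟨l, hl⟩

end Groth.Agent.H16Derived.DQLim
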