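import Groth.Agent.H16Derived.DQLim.Detect
import Groth.Agent.H16Derived.DQLim.Corep
import Groth.Agent.H16Derived.DQLim.ModTower
import Groth.Agent.H16Derived.QCohD.RpushUnb
import Groth.Agent.H29Fitt.PullbackQCoh

/-!
# Pullback of a limit of modules against the limit of the pullbacks
-/

set_option autoImplicit false
set_option linter.style.haveILetI false
set_option linter.unusedSectionVars false
set_option backward.isDefEq.respectTransparency false

universe u

open CategoryTheory CategoryTheory.Limits CategoryTheory.Pretriangulated AlgebraicGeometry Opposite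

attribute [local instance] HasDerivedCategory.standard

namespace Groth.Agent.H16Derived.DQLim

open H15Site

variable {R : Type u} [CommRing R] {X : Scheme.{u}} (f : X ⟶ Spec (CommRingCat.of R))
  [IsProper f] [Flat f] [LocallyOfFinitePresentation f]

/-- Pullback of the sheaf of a module. -/
noncomputable abbrev G : ModuleCat.{u} R ⥤ X.Modules :=
  tilde.functor (CommRingCat.of R) ⋙ Scheme.Modules.pullback f

variable [DCoh.HasLpull f]

/-- Derived pullback from `D(R)`. -/
noncomputable abbrev Ψ : DerivedCategory (ModuleCat.{u} R) ⥤ DCoh.D X :=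
  DCoh.tildeD (CommRingCat.of R) ⋙ DCoh.Lpull f

/-- `Hom(P, Ψ -)` is corepresented. -/
theorem exists_corep_mod {P : DCoh.D X} (hP : DCoh.IsPerfect P) :
    ∃ (D : DerivedCategory (ModuleCat.{u} R))
      (e : ∀ K : DerivedCategory (ModuleCat.{u} R), (D ⟶ K) ≃ (P ⟶ (Ψ f).obj K)),
      ∀ (K K' : DerivedCategory (ModuleCat.{u} R)) (φ : K ⟶ K') (y : D ⟶ K),
        e K' (y ≫ φ) = e K y ≫ (Ψ f).map φ := by
  haveI := QCohD.hasRpush f
  obtain ⟨k, hk, e, he⟩ := exists_corep f hP
  obtain ⟨D, ⟨i⟩⟩ := QCohD.exists_tildeD_iso (CommRingCat.of R) (Dual.isQCohD_of_isPerfect hk)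
  obtain ⟨hf₁, hf₂⟩ := QCohD.full_faithful (CommRingCat.of R)
  haveI := hf₁
  haveI := hf₂
  let F := DCoh.tildeD (CommRingCat.of R)
  have hq : ∀ K, DCoh.IsQCohD (F.obj K) := fun K => QCohD.isQCohD_tildeD (CommRingCat.of R) K
  let b : ∀ K, (D ⟶ K) ≃ (F.obj D ⟶ F.obj K) := fun K =>
    Equiv.ofBijective _ ⟨fun _ _ h => F.map_injective h, F.map_surjective⟩
  refine ⟨D, fun K => ((b K).trans (pre _ i.symm)).trans (e _ (hq K)), fun K K' φ y => ?_⟩
  show e _ (hq K') (i.inv ≫ F.map (y ≫ φ)) = e _ (hq K) (i.inv ≫ F.map y) ≫ (DCoh.Lpull f).map (F.map φ)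
  rw [← he, Functor.map_comp, Category.assoc]

variable (M : ℕ → ModuleCat.{u} R) (t : ∀ n, M (n + 1) ⟶ M n)

/-- The comparison map. -/
noncomputable abbrev cmp :
    (G f).obj (limit (Functor.ofOpSequence t)) ⟶ limit (Functor.ofOpSequence t ⋙ G f) :=
  limit.lift (Functor.ofOpSequence t ⋙ G f) ((G f).mapCone (limit.cone (Functor.ofOpSequence t)))

variable [HasProduct fun n => DCoh.inD X ((G f).obj (M n))]
  [HasProduct fun n => (DerivedCategory.singleFunctor (ModuleCat.{u} R) 0).obj (M n)]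
  (ν : G f ⋙ DerivedCategory.singleFunctor X.Modules 0 ≅
    DerivedCategory.singleFunctor (ModuleCat.{u} R) 0 ⋙ Ψ f)

/-- The comparison of products. -/
noncomputable def κ :
    (Ψ f).obj (∏ᶜ fun n => (DerivedCategory.singleFunctor (ModuleCat.{u} R) 0).obj (M n)) ⟶
      ∏ᶜ fun n => DCoh.inD X ((G f).obj (M n)) :=
  Pi.lift fun n => (Ψ f).map (Pi.π _ n) ≫ ν.inv.app (M n)

@[reassoc]
theorem κ_π (n : ℕ) :
    κ f M ν ≫ Pi.π _ n = (Ψ f).map (Pi.π _ n) ≫ ν.inv.app (M n) := Pi.lift_π _ n

theorem bijective_κ {P : DCoh.D X} (hP : DCoh.IsPerfect P) :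
    Function.Bijective fun x => (x : P ⟶ _) ≫ κ f M ν := by
  obtain ⟨D, e, he⟩ := exists_corep_mod f hP
  constructor
  · intro x y hxy
    obtain ⟨x', rfl⟩ := (e _).surjective x
    obtain ⟨y', rfl⟩ := (e _).surjective y
    refine congrArg (e _) (Pi.hom_ext _ _ fun n => (e _).injective ?_)
    rw [he, he, ← cancel_mono (ν.inv.app (M n)), Category.assoc, Category.assoc]
    refine (congrArg (e _ x' ≫ ·) (κ_π f M ν n)).symm.trans (Eq.trans ?_ (congrArg (e _ y' ≫ ·) (κ_π f M ν n)))
    simpa only [Category.assoc] using congrArg (· ≫ Pi.π _ n) hxy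
  · intro y
    refine ⟨e _ (Pi.lift fun n => (e _).symm ((y ≫ Pi.π _ n) ≫ ν.hom.app (M n))), Pi.hom_ext _ _ fun n => ?_⟩
    rw [Category.assoc, κ_π, ← Category.assoc, ← he, Pi.lift_π, Equiv.apply_symm_apply, Category.assoc,
      ν.hom_inv_id_app]
    exact Category.comp_id _

theorem diff_κ [(Ψ f).Additive] :
    (Ψ f).map (RlimTriang.diff (fun n => (DerivedCategory.singleFunctor (ModuleCat.{u} R) 0).obj (M n))
        (fun n => (DerivedCategory.singleFunctor (ModuleCat.{u} R) 0).map (t n))) ≫ κ f M ν =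
      κ f M ν ≫ RlimTriang.diff (fun n => DCoh.inD X ((G f).obj (M n)))
        (fun n => (DerivedCategory.singleFunctor X.Modules 0).map ((G f).map (t n))) := by
  refine Pi.hom_ext _ _ fun n => ?_
  have hn : (Ψ f).map ((DerivedCategory.singleFunctor (ModuleCat.{u} R) 0).map (t n)) ≫ ν.inv.app (M n) =
      ν.inv.app (M (n + 1)) ≫ (DerivedCategory.singleFunctor X.Modules 0).map ((G f).map (t n)) :=
    ν.inv.naturality (t n)
  rw [Category.assoc, κ_π, ← Category.assoc, ← Functor.map_comp, Pi.lift_π, Functor.map_sub,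
    Functor.map_comp, Preadditive.sub_comp, Category.assoc, hn, Category.assoc, Pi.lift_π,
    Preadditive.comp_sub, κ_π]
  refine congrArg (_ - ·) ?_
  exact ((Category.assoc _ _ _).symm.trans ((congrArg (· ≫ _) (κ_π f M ν (n + 1))).trans
    (Category.assoc _ _ _))).symm

theorem isRlimVia_pullback (hF : ∀ n, Coh.IsQCoh ((G f).obj (M n)))
    (ht : ∀ n, Epi ((G f).map (t n))) :
    CohCx.IsRlimVia (fun n => DCoh.inD X ((G f).obj (M n)))
      (fun n => (DerivedCategory.singleFunctor X.Modules 0).map ((G f).map (t n)))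
      (DCoh.inD X (limit (Functor.ofOpSequence t ⋙ G f)))
      (fun n => (DerivedCategory.singleFunctor X.Modules 0).map
        (limit.π (Functor.ofOpSequence t ⋙ G f) (op n))) := by
  let F' : ℕ → X.Modules := fun n => (G f).obj (M n)
  let t' : ∀ n, F' (n + 1) ⟶ F' n := fun n => (G f).map (t n)
  let α : Functor.ofOpSequence t ⋙ G f ⟶ Functor.ofOpSequence t' :=
    NatTrans.ofOpSequence (F := Functor.ofOpSequence t ⋙ G f) (G := Functor.ofOpSequence t') (fun n => 𝟙 (F' n)) fun n => by
      rw [Functor.comp_map, Functor.ofOpSequence_map_homOfLE_succ, Functor.ofOpSequence_map_homOfLE_succ]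
      exact (Category.comp_id _).trans (Category.id_comp _).symm
  haveI : ∀ j, IsIso (α.app j) := fun j => inferInstanceAs (IsIso (𝟙 _))
  haveI := NatIso.isIso_of_isIso_app α
  refine RlimTriang.isRlimVia_of_iso
    (RlimMod.main_qcoh_via F' hF t' (fun n _ => ht n)).1
    ((DerivedCategory.singleFunctor X.Modules 0).mapIso (HasLimit.isoOfNatIso (asIso α))) _ fun n => ?_
  rw [Functor.mapIso_hom, ← Functor.map_comp, HasLimit.isoOfNatIso_hom_π]
  exact congrArg _ (Category.comp_id _)

include ν in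
theorem bijective_cmp_aux [(Ψ f).CommShift ℤ] [(Ψ f).IsTriangulated] (ht : ∀ n, Epi (t n))
    (hF : ∀ n, Coh.IsQCoh ((G f).obj (M n))) (ht' : ∀ n, Epi ((G f).map (t n)))
    (P : DCoh.D X) (hP : DCoh.IsPerfect P) :
    Function.Bijective fun x : P ⟶ DCoh.inD X ((G f).obj (limit (Functor.ofOpSequence t))) =>
      x ≫ (DerivedCategory.singleFunctor X.Modules 0).map (cmp f M t) := by
  obtain ⟨cR, hR⟩ := isRlimVia_modules R M t ht
  obtain ⟨cX, hX⟩ := isRlimVia_pullback f M t hF ht'
  obtain ⟨a, ha, ha'⟩ := complete_distinguished_triangle_morphism₁ _ _ ((Ψ f).map_distinguished _ hR) hX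
    (κ f M ν) (κ f M ν) (diff_κ f M t ν)
  have hbij := bijective_five (fun Q : DCoh.D X => DCoh.IsPerfect Q)
    (fun Q h n => KFlat.Stalk.isPerfect_shift h n) ((Ψ f).map_distinguished _ hR) hX a (κ f M ν) ha
    (diff_κ f M t ν) ha' (fun Q hQ => bijective_κ f M ν hQ) P hP
  let L := limit (Functor.ofOpSequence t)
  obtain ⟨γ, hγ⟩ := (DerivedCategory.singleFunctor X.Modules 0).map_surjective (ν.hom.app L ≫ a)
  have hγc : γ = cmp f M t := limit.hom_ext fun j => by
    obtain ⟨n⟩ := j
    apply (DerivedCategory.singleFunctor X.Modules 0).map_injective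
    rw [limit.lift_π, Functor.map_comp, hγ, Category.assoc]
    have h1 := congrArg (· ≫ Pi.π _ n) ha
    simp only [Category.assoc] at h1
    refine (congrArg (ν.hom.app L ≫ ·) ((congrArg (a ≫ ·) (Pi.lift_π _ n)).symm.trans (h1.symm.trans
      ((congrArg ((Ψ f).map _ ≫ ·) (κ_π f M ν n)).trans ((Category.assoc _ _ _).symm.trans
        (congrArg (· ≫ ν.inv.app (M n)) (((Ψ f).map_comp _ _).symm.trans
          (congrArg (Ψ f).map (Pi.lift_π _ n))))))))).trans ?_
    refine (congrArg (ν.hom.app L ≫ ·) (ν.inv.naturality (limit.π (Functor.ofOpSequence t) (op n)))).trans ?_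
    exact ν.hom_inv_id_app_assoc L _
  have e : (fun x : P ⟶ DCoh.inD X ((G f).obj L) =>
      x ≫ (DerivedCategory.singleFunctor X.Modules 0).map (cmp f M t)) =
      (fun x => x ≫ a) ∘ post P (ν.app L) := funext fun x => by
    rw [← hγc, hγ]
    exact (Category.assoc _ _ _).symm
  rw [e]
  exact hbij.comp (Equiv.bijective _)

omit [DCoh.HasLpull f]
omit [HasProduct fun n => DCoh.inD X ((G f).obj (M n))]
  [HasProduct fun n => (DerivedCategory.singleFunctor (ModuleCat.{u} R) 0).obj (M n)]

/-- The main theorem. -/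
theorem bijective_cmp (ht : ∀ n, Epi (t n)) (Q : DCoh.D X) (hQ : DCoh.IsQCohD Q) :
    Function.Bijective fun φ : Q ⟶ DCoh.inD X ((G f).obj (limit (Functor.ofOpSequence t))) =>
      φ ≫ (DerivedCategory.singleFunctor X.Modules 0).map (cmp f M t) := by
  haveI : CompactSpace X := QuasiCompact.compactSpace_of_compactSpace f
  haveI : QuasiSeparatedSpace X := quasiSeparatedSpace_of_quasiSeparated f
  haveI := KFlat.Stalk.hasLpull f
  haveI := KFlat.Stalk.isGrothendieckAbelian_modules (X := X)
  haveI : HasProduct fun n => DCoh.inD X ((G f).obj (M n)) := QCohD.hasProduct_nat _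
  haveI : HasLimitsOfShape (Discrete (ULift.{u} ℕ)) (DerivedCategory (ModuleCat.{u} R)) :=
    KInjRes.hasProducts_derivedCategory (A := ModuleCat.{u} R) (ULift.{u} ℕ)
  haveI : HasLimitsOfShape (Discrete ℕ) (DerivedCategory (ModuleCat.{u} R)) :=
    hasLimitsOfShape_of_equivalence (Discrete.equivalence Equiv.ulift)
  obtain ⟨ν⟩ := nonempty_lpull_tildeD_single f
  letI := KFlat.Stalk.lpullCommShift f
  haveI := KFlat.Stalk.lpull_isTriangulated f
  have hF : ∀ n, Coh.IsQCoh ((G f).obj (M n)) := fun n =>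
    H29Fitt.isQCoh_pullback f _ (show (tilde (R := CommRingCat.of R) (M n)).IsQuasicoherent from inferInstance)
  have ht' : ∀ n, Epi ((G f).map (t n)) := fun n => by
    haveI := ht n
    haveI : PreservesFiniteColimits (tilde.functor (CommRingCat.of R)) := preservesFiniteColimits_tilde R
    haveI : PreservesFiniteColimits (Scheme.Modules.pullback f) :=
      @PreservesColimitsOfSize.preservesFiniteColimits.{0, 0} _ _ _ _ (Scheme.Modules.pullback f)
        ((Scheme.Modules.pullbackPushforwardAdjunction f).leftAdjoint_preservesColimits)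
    exact inferInstance
  exact bijective_of_isPerfect _ (bijective_cmp_aux f M t ν ht hF ht') Q hQ

end Groth.Agent.H16Derived.DQLim
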